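import Mathlib
import Groth.Prelude.Def_C1
import Groth.Agent.CycC1Lib.Pull

/-!
# Base change of zero schemes of sections
-/

set_option autoImplicit false
set_option linter.style.haveILetI false
set_option linter.unusedSectionVars false

universe u

open AlgebraicGeometry CategoryTheory CategoryTheory.Limits IsLocalRing Opposite

noncomputable section

namespace CycGysLib

variable {X X' D : Scheme.{u}}

theorem ker_stalkMap_fst (f : X' ⟶ X) (i : D ⟶ X) [IsClosedImmersion i] (z : ↥(pullback f i)) {U : X.Opens}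
    (hx : f (pullback.fst f i z) ∈ U) (hd : i (pullback.snd f i z) ∈ U) (a₀ : Γ(X, U))
    (hker : RingHom.ker (i.stalkMap (pullback.snd f i z)).hom = Ideal.span {X.presheaf.germ U _ hd a₀}) :
    RingHom.ker ((pullback.fst f i).stalkMap z).hom =
      Ideal.span {f.stalkMap (pullback.fst f i z) (X.presheaf.germ U _ hx a₀)} := by
  have hcond : f (pullback.fst f i z) = i (pullback.snd f i z) := by
    rw [← Scheme.Hom.comp_apply, pullback.condition, Scheme.Hom.comp_apply]
  let ρ : X'.presheaf.stalk (pullback.fst f i z) := f.stalkMap (pullback.fst f i z) (X.presheaf.germ U _ hx a₀)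
  refine le_antisymm ?_ ?_
  · by_cases htop : Ideal.span {ρ} = ⊤
    · exact htop ▸ le_top
    let R : Type u := X'.presheaf.stalk (pullback.fst f i z)
    let ρ' : R := ρ
    change ¬ Ideal.span {ρ'} = (⊤ : Ideal R) at htop
    haveI : Nontrivial (R ⧸ Ideal.span {ρ'}) := Ideal.Quotient.nontrivial_iff.2 htop
    haveI : IsLocalRing (R ⧸ Ideal.span {ρ'}) :=
      IsLocalRing.of_surjective' (Ideal.Quotient.mk _) Ideal.Quotient.mk_surjective
    let Q : CommRingCat.{u} := CommRingCat.of (R ⧸ Ideal.span {ρ'})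
    haveI : IsLocalRing Q := ‹IsLocalRing (R ⧸ Ideal.span {ρ'})›
    let q : X'.presheaf.stalk (pullback.fst f i z) ⟶ Q := CommRingCat.ofHom (Ideal.Quotient.mk (Ideal.span {ρ'}))
    haveI : IsLocalHom q.hom := Function.Surjective.isLocalHom _ Ideal.Quotient.mk_surjective
    let χ : X.presheaf.stalk (i (pullback.snd f i z)) ⟶ Q :=
      X.presheaf.stalkSpecializes (specializes_of_eq hcond) ≫ f.stalkMap (pullback.fst f i z) ≫ q
    have hχ : RingHom.ker (i.stalkMap (pullback.snd f i z)).hom ≤ RingHom.ker χ.hom := by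
      rw [hker, Ideal.span_le, Set.singleton_subset_iff, SetLike.mem_coe, RingHom.mem_ker]
      show q (f.stalkMap _ (X.presheaf.stalkSpecializes (specializes_of_eq hcond) (X.presheaf.germ U _ hd a₀))) = 0
      rw [TopCat.Presheaf.germ_stalkSpecializes_apply]
      exact Ideal.Quotient.eq_zero_iff_mem.2 (Ideal.mem_span_singleton_self ρ')
    let χ' : D.presheaf.stalk (pullback.snd f i z) ⟶ Q := CommRingCat.ofHom
      (RingHom.liftOfSurjective (i.stalkMap (pullback.snd f i z)).hom (i.stalkMap_surjective _) ⟨χ.hom, hχ⟩)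
    have hfac : i.stalkMap (pullback.snd f i z) ≫ χ' = χ :=
      CommRingCat.hom_ext (RingHom.liftOfRightInverse_comp _ _ _ _)
    have hT : (Spec.map q ≫ X'.fromSpecStalk (pullback.fst f i z)) ≫ f =
        (Spec.map χ' ≫ D.fromSpecStalk (pullback.snd f i z)) ≫ i := by
      rw [Category.assoc, Category.assoc, ← Scheme.SpecMap_stalkMap_fromSpecStalk, ← Spec.map_comp_assoc,
        ← Scheme.SpecMap_stalkMap_fromSpecStalk, ← Spec.map_comp_assoc, hfac,
        ← X.SpecMap_stalkSpecializes_fromSpecStalk (specializes_of_eq hcond), ← Spec.map_comp_assoc]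
    let g : Spec Q ⟶ pullback f i := pullback.lift _ _ hT
    have hgz : g (closedPoint Q) = z := by
      refine (pullback.fst f i).isClosedEmbedding.injective ?_
      rw [← Scheme.Hom.comp_apply, pullback.lift_fst, Scheme.Hom.comp_apply, Spec_closedPoint,
        Scheme.fromSpecStalk_closedPoint]
    intro a ha
    obtain ⟨V, hV, a₁, rfl⟩ := TopCat.Presheaf.exists_germ_eq X'.presheaf (x := pullback.fst f i z) a
    rw [RingHom.mem_ker] at ha
    have ha' : (pullback f i).presheaf.germ (pullback.fst f i ⁻¹ᵁ V) z hV ((pullback.fst f i).app V a₁) = 0 := by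
      rw [← Scheme.Hom.germ_stalkMap_apply]
      exact ha
    obtain ⟨W, hzW, iW, iW', hW⟩ := TopCat.Presheaf.germ_eq (U := pullback.fst f i ⁻¹ᵁ V) (V := pullback.fst f i ⁻¹ᵁ V) (pullback f i).presheaf z hV hV _ 0 (by rw [ha', map_zero])
    rw [map_zero] at hW
    have hgV : g (closedPoint Q) ∈ pullback.fst f i ⁻¹ᵁ V := by rw [hgz]; exact hV
    have hgW : g (closedPoint Q) ∈ W := by rw [hgz]; exact hzW
    have key : ∀ (h : Spec Q ⟶ X') (_ : h = Spec.map q ≫ X'.fromSpecStalk (pullback.fst f i z))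
        (hc : h (closedPoint Q) ∈ V), Scheme.stalkClosedPointTo h (X'.presheaf.germ V _ hc a₁) =
          q (X'.presheaf.germ V (pullback.fst f i z) hV a₁) := by
      rintro h rfl hc
      exact ConcreteCategory.congr_hom (Scheme.germ_stalkClosedPointTo_Spec_fromSpecStalk q V hc) a₁
    have e3 := key (g ≫ pullback.fst f i) (pullback.lift_fst _ _ hT) hgV
    rw [Scheme.stalkClosedPointTo_comp] at e3
    replace e3 : Scheme.stalkClosedPointTo g ((pullback.fst f i).stalkMap (g (closedPoint Q))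
        (X'.presheaf.germ V (pullback.fst f i (g (closedPoint Q))) hgV a₁)) =
          q (X'.presheaf.germ V (pullback.fst f i z) hV a₁) := e3
    rw [Scheme.Hom.germ_stalkMap_apply (pullback.fst f i) V (g (closedPoint Q)) hgV a₁,
      ← TopCat.Presheaf.germ_res_apply (pullback f i).presheaf iW _ hgW, hW, map_zero, map_zero] at e3
    exact Ideal.Quotient.eq_zero_iff_mem.1 e3.symm
  · rw [Ideal.span_le, Set.singleton_subset_iff, SetLike.mem_coe, RingHom.mem_ker]
    have h0 : i.stalkMap (pullback.snd f i z) (X.presheaf.germ U _ hd a₀) = 0 :=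
      RingHom.mem_ker.1 (hker.ge (Ideal.mem_span_singleton_self _))
    have key : ∀ (h : pullback f i ⟶ X) (_ : h = pullback.fst f i ≫ f) (hz : h z ∈ U),
        (pullback.fst f i).stalkMap z (f.stalkMap (pullback.fst f i z) (X.presheaf.germ U _ hx a₀)) =
          h.stalkMap z (X.presheaf.germ U _ hz a₀) := by
      rintro h rfl hz
      rw [Scheme.Hom.stalkMap_comp]
      rfl
    rw [key _ pullback.condition.symm hd, Scheme.Hom.stalkMap_comp]
    show (pullback.snd f i).stalkMap z (i.stalkMap (pullback.snd f i z) (X.presheaf.germ U _ hd a₀)) = 0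
    rw [h0, map_zero]

/-- The section pulled back. -/
def pbSec (f : X' ⟶ X) {L : X.Modules} (s : L.presheaf.obj (Opposite.op ⊤)) :
    (KFlatLib.pb f L).presheaf.obj (Opposite.op ⊤) :=
  KFlatLib.puSec f (U := ⊤) s

theorem pbFib_germ (f : X' ⟶ X) {L : X.Modules} (hL : PicF.IsInvertible L) (s : L.presheaf.obj (Opposite.op ⊤))
    (x : X') :
    CycC1Lib.pbFib f L x (CycC1Lib.fib L (L.presheaf.germ ⊤ (f x) trivial s)) =
      CycC1Lib.fib (KFlatLib.pb f L) ((KFlatLib.pb f L).presheaf.germ ⊤ x trivial (pbSec f s)) := by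
  obtain ⟨U, e, hU, he⟩ := TwistLib.exists_genOn hL (f x)
  obtain ⟨φ, hφ⟩ := (he.genAt hU).2 (L.presheaf.germ ⊤ (f x) trivial s)
  rw [CycC1Lib.pbFib_coord f hU (he.genAt hU)
    ((congrArg (CycC1Lib.fib L) hφ.symm).trans (Submodule.Quotient.mk_smul _ _ _))]
  refine (Submodule.Quotient.mk_smul _ _ _).symm.trans (congrArg _ ?_)
  have h1 := CycC1Lib.puStalk_germ_smul f L (U := ⊤) x trivial s 1
  rw [one_smul, map_one, one_smul] at h1
  refine Eq.trans ?_ h1
  rw [← hφ, CycC1Lib.puStalk_germ_smul]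

/-- The pullback of a zero scheme is the zero scheme of the pulled back section. -/
theorem isZeroSchemeOf_pullback (f : X' ⟶ X) (i : D ⟶ X) [IsClosedImmersion i] {L : X.Modules}
    (hL : PicF.IsInvertible L) (s : L.presheaf.obj (Opposite.op ⊤)) (hD : Cyc.IsZeroSchemeOf i L s) :
    Cyc.IsZeroSchemeOf (pullback.fst f i) (KFlatLib.pb f L) (pbSec f s) := by
  refine ⟨?_, fun z => ?_⟩
  · rw [Scheme.Pullback.range_fst, hD.1]
    ext x
    simp only [Set.mem_preimage, Set.mem_setOf_eq]
    show CycC1Lib.fib L _ = 0 ↔ CycC1Lib.fib (KFlatLib.pb f L) _ = 0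
    rw [← pbFib_germ f hL s x]
    obtain ⟨U, e, hU, he⟩ := TwistLib.exists_genOn hL (f x)
    obtain ⟨φ, hφ⟩ := CycC1Lib.exists_coord (he.genAt hU) (CycC1Lib.fib L (L.presheaf.germ ⊤ (f x) trivial s))
    rw [CycC1Lib.pbFib_coord f hU (he.genAt hU) hφ, hφ, CycC1Lib.fib_smul_eq_zero_iff (he.genAt hU),
      CycC1Lib.fib_smul_eq_zero_iff (TwistLib.GenAt.puSec f (he.genAt hU)), ← CycC1Lib.residue_stalkMap]
    exact (_root_.map_eq_zero (f.residueFieldMap x).hom).symm
  · have hcond : f (pullback.fst f i z) = i (pullback.snd f i z) := by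
      rw [← Scheme.Hom.comp_apply, pullback.condition, Scheme.Hom.comp_apply]
    obtain ⟨U, e, hU, he⟩ := TwistLib.exists_genOn hL (f (pullback.fst f i z))
    obtain ⟨φ, hφ⟩ := (he.genAt hU).2 (L.presheaf.germ ⊤ (f (pullback.fst f i z)) trivial s)
    obtain ⟨V, hxV, hVU, a₀, hφs⟩ : ∃ (V : X.Opens) (_ : f (pullback.fst f i z) ∈ V) (hVU : V ≤ U) (a₀ : Γ(X, V)),
        X.presheaf.germ V _ ‹_› a₀ = φ ∧
          L.presheaf.map (homOfLE (le_top : V ≤ ⊤)).op s = a₀ • L.presheaf.map (homOfLE hVU).op e := by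
      obtain ⟨V, hV, b, rfl⟩ := TopCat.Presheaf.exists_germ_eq X.presheaf (x := f (pullback.fst f i z)) φ
      have h1 : L.presheaf.germ (V ⊓ U) _ ⟨hV, hU⟩
          (X.presheaf.map (homOfLE (inf_le_left : V ⊓ U ≤ V)).op b • L.presheaf.map (homOfLE (inf_le_right : V ⊓ U ≤ U)).op e) =
          L.presheaf.germ (V ⊓ U) _ ⟨hV, hU⟩ (L.presheaf.map (homOfLE (le_top : V ⊓ U ≤ ⊤)).op s) := by
        rw [AmpleLib.germ_smul, TopCat.Presheaf.germ_res_apply, TopCat.Presheaf.germ_res_apply,
          TopCat.Presheaf.germ_res_apply]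
        exact hφ
      obtain ⟨W, hW, iW, iW', hWeq⟩ := TopCat.Presheaf.germ_eq (U := V ⊓ U) (V := V ⊓ U) L.presheaf _ ⟨hV, hU⟩ ⟨hV, hU⟩ _ _ h1
      refine ⟨W, hW, iW.le.trans inf_le_right, X.presheaf.map (homOfLE (iW.le.trans inf_le_left)).op b,
        TopCat.Presheaf.germ_res_apply _ _ _ _ _, ?_⟩
      rw [Scheme.Modules.map_smul] at hWeq
      simp only [← ConcreteCategory.comp_apply, ← Functor.map_comp] at hWeq ⊢
      exact hWeq.symm
    obtain ⟨hφ', hsec⟩ := hφs
    have hdV : i (pullback.snd f i z) ∈ V := hcond ▸ hxV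
    obtain ⟨t, f₀, ht, hst, hker⟩ := hD.2 (pullback.snd f i z)
    let ed : L.presheaf.stalk (i (pullback.snd f i z)) := L.presheaf.germ U _ (hVU hdV) e
    have hsd : L.presheaf.germ ⊤ (i (pullback.snd f i z)) trivial s = X.presheaf.germ V _ hdV a₀ • ed := by
      rw [← TopCat.Presheaf.germ_res_apply L.presheaf (homOfLE (le_top : V ≤ ⊤)) _ hdV, hsec, AmpleLib.germ_smul,
        TopCat.Presheaf.germ_res_apply]
    obtain ⟨b, hb⟩ := (he.genAt (hVU hdV)).2 t
    obtain ⟨c, hc⟩ := Submodule.mem_span_singleton.1 (ht.ge (Submodule.mem_top (x := ed)))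
    have hcoef : f₀ * b = X.presheaf.germ V _ hdV a₀ := (he.genAt (hVU hdV)).1 (by
      show (f₀ * b) • ed = X.presheaf.germ V _ hdV a₀ • ed
      rw [mul_smul, ← hsd, hst]
      exact congrArg (f₀ • ·) hb)
    have hbu : IsUnit b := IsUnit.of_mul_eq_one c ((he.genAt (hVU hdV)).1 (by
      show (b * c) • ed = (1 : X.presheaf.stalk _) • ed
      rw [mul_comm b c, mul_smul, one_smul]
      exact (congrArg (c • ·) hb).trans hc))
    have hker' : RingHom.ker (i.stalkMap (pullback.snd f i z)).hom =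
        Ideal.span {X.presheaf.germ V _ hdV a₀} := by
      rw [hker, ← hcoef, Ideal.span_singleton_mul_right_unit hbu]
    refine ⟨(KFlatLib.pb f L).presheaf.germ (f ⁻¹ᵁ U) (pullback.fst f i z) hU (KFlatLib.puSec f e),
      f.stalkMap (pullback.fst f i z) φ, ?_, ?_, ?_⟩
    · refine eq_top_iff.2 fun v _ => ?_
      obtain ⟨c', rfl⟩ := (TwistLib.GenAt.puSec f (he.genAt hU)).2 v
      exact Submodule.smul_mem _ c' (Submodule.mem_span_singleton_self _)
    · have h1 := CycC1Lib.puStalk_germ_smul f L (U := ⊤) (pullback.fst f i z) trivial s 1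
      rw [one_smul, map_one, one_smul] at h1
      exact h1.symm.trans ((congrArg _ hφ.symm).trans (CycC1Lib.puStalk_germ_smul f L _ hU e φ))
    · rw [← hφ']
      exact ker_stalkMap_fst f i z hxV hdV a₀ hker'

end CycGysLib

end
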