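import Mathlib
import Groth.Prelude.Def_C1
import Groth.Agent.CycC1Lib.Push
import Groth.Agent.CycGysLib.ZeroScheme

/-!
# Gysin maps computed with rational sections
-/

set_option autoImplicit false
set_option linter.style.haveILetI false
set_option linter.unusedSectionVars false

universe u

open AlgebraicGeometry CategoryTheory CategoryTheory.Limits IsLocalRing Opposite

noncomputable section

namespace CycGysLib

open CycC1Lib (fib pbFib)

variable {X D : Scheme.{u}} {δ : X → ℤ}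

/-- The restriction of a cycle to a closed subscheme. -/
def restrictCyc (i : D ⟶ X) [IsClosedImmersion i] (α : AlgebraicCycle X ℤ) : AlgebraicCycle D ℤ where
  toFun d := α (i d)
  supportWithinDomain' := by simp
  supportLocallyFiniteWithinDomain' d _ := by
    obtain ⟨t, ht, htf⟩ := α.supportLocallyFiniteWithinDomain' (i d) trivial
    exact ⟨i ⁻¹' t, i.continuous.continuousAt.preimage_mem_nhds ht,
      (htf.preimage i.isClosedEmbedding.injective.injOn).subset fun z hz => hz⟩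

theorem secDivFun_pbFib (i : D ⟶ X) [IsClosedImmersion i] (hX : Cyc.IsSetup X δ) {L : X.Modules}
    (hL : PicF.IsInvertible L) (ξ : D) {v : Cyc.secFibre L (i ξ)} (hv : v ≠ 0) (d : D) :
    Cyc.secDivFun (fun w => δ (i w)) (KFlatLib.pb i L) ξ (pbFib i L ξ v) d =
      Cyc.secDivFun δ L (i ξ) v (i d) := by
  by_cases h : i ξ ⤳ i d
  swap
  · rw [CycC1Lib.secDivFun_eq_zero_of_not fun h' => h h'.1,
      CycC1Lib.secDivFun_eq_zero_of_not fun h' => h (h'.1.map i.continuous)]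
  obtain ⟨U, e, hdU, he⟩ := TwistLib.exists_genOn hL (i d)
  have hξU : i ξ ∈ U := h.mem_open U.isOpen hdU
  obtain ⟨φ, hφ⟩ := CycC1Lib.exists_coord (he.genAt hξU) v
  have hD := (CycPushLib.setup_of_closedImmersion i hX).1
  have he' : AmpleLib.GenOn (KFlatLib.pb i L) (W := i ⁻¹ᵁ U) (KFlatLib.puSec i e) :=
    TwistLib.genOn_of_genAt fun z hz => TwistLib.GenAt.puSec i (he.genAt hz)
  rw [CycC1Lib.secDivFun_eq_divFun hX he hdU hξU hφ,
    CycC1Lib.secDivFun_eq_divFun hD he' (show d ∈ i ⁻¹ᵁ U from hdU) hξU (CycC1Lib.pbFib_coord i hξU (he.genAt hξU) hφ),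
    CycPushLib.divFun_closedImmersion i hX rfl (CycC1Lib.residue_coord_ne_zero (he.genAt hξU) hv hφ),
    CycPushLib.gpull_rfl, CycC1Lib.residue_stalkMap]

/-- The restriction of a cap computed with pulled back sections. -/
theorem c1CapFun_restrict (i : D ⟶ X) [IsClosedImmersion i] (hX : Cyc.IsSetup X δ) {L : X.Modules}
    (hL : PicF.IsInvertible L) (α : X → ℤ) (hα : ∀ x, x ∉ Set.range i → α x = 0)
    {v : (ξ : X) → Cyc.secFibre L ξ} (hv : ∀ ξ, v ξ ≠ 0) (d : D) :
    Cyc.c1CapFun δ L α v (i d) =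
      Cyc.c1CapFun (fun w => δ (i w)) (KFlatLib.pb i L) (fun w => α (i w)) (fun w => pbFib i L w (v (i w))) d := by
  show ∑ᶠ ξ : X, α ξ * Cyc.secDivFun δ L ξ (v ξ) (i d) = _
  rw [← finsum_mem_univ]
  have hsub : Function.support (fun ξ => α ξ * Cyc.secDivFun δ L ξ (v ξ) (i d)) ⊆ Set.range i := fun ξ hξ => by
    by_contra hn
    exact left_ne_zero_of_mul hξ (hα ξ hn)
  rw [finsum_mem_inter_support_eq _ Set.univ (Set.range i) (by rw [Set.univ_inter, Set.inter_eq_right.2 hsub]),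
    finsum_mem_range i.isClosedEmbedding.injective]
  exact finsum_congr fun w => by rw [secDivFun_pbFib i hX hL w (hv _)]

/-- Changing the sections on the closed subscheme changes the Gysin map by a rational equivalence. -/
theorem ratEquiv_restrict_c1Cap (hX : Cyc.IsSetup X δ) {L : X.Modules} (hL : PicF.IsInvertible L)
    (i : D ⟶ X) [IsClosedImmersion i] {k : ℤ} (α : AlgebraicCycle X ℤ) (hα : α ∈ Cyc.Zk X δ (k + 1))
    {u u' : (ξ : X) → Cyc.secFibre L ξ} (hu : ∀ ξ, u ξ ≠ 0) (hu' : ∀ ξ, u' ξ ≠ 0)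
    (hout : ∀ ξ, ξ ∉ Set.range i → ∀ d, Cyc.secDivFun δ L ξ (u ξ) (i d) = Cyc.secDivFun δ L ξ (u' ξ) (i d))
    (γ γ' : AlgebraicCycle D ℤ) (hγ : ∀ d, γ d = Cyc.c1CapFun δ L ⇑α u (i d))
    (hγ' : ∀ d, γ' d = Cyc.c1CapFun δ L ⇑α u' (i d)) : Cyc.RatEquiv (fun d => δ (i d)) k γ γ' := by
  classical
  have hD := (CycPushLib.setup_of_closedImmersion i hX).1
  choose g hg hgx using fun ξ => CycC1Lib.exists_secDivFun_eq_add hL hX (hu' ξ) (hu ξ)
  refine CycC1Lib.ratEquivZero_of_weighted hD (restrictCyc i α) (fun d hd => hα (i d) hd)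
    (fun d => i.residueFieldMap d (g (i d)))
    (fun d => (_root_.map_ne_zero (i.residueFieldMap d).hom).2 (hg _)) _ fun d S hS => ?_
  show γ d - γ' d = _
  obtain ⟨T₀, hT₀⟩ := CycC1Lib.exists_finset_generizations α (i d)
  let T := T₀ ∪ S.image i
  have hT : ∀ ξ, α ξ ≠ 0 → ξ ⤳ i d → ξ ∈ T := fun ξ h h' => Finset.mem_union_left _ (hT₀ ξ h h')
  rw [hγ, hγ', CycC1Lib.c1CapFun_eq_sum hT, CycC1Lib.c1CapFun_eq_sum hT, ← Finset.sum_sub_distrib,
    ← Finset.sum_subset (Finset.subset_union_right : S.image i ⊆ T)]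
  · rw [Finset.sum_image fun a _ b _ h => i.isClosedEmbedding.injective h]
    refine Finset.sum_congr rfl fun w _ => ?_
    show _ = α (i w) * _
    rw [hgx, CycPushLib.divFun_closedImmersion i hX rfl (hg _), CycPushLib.gpull_rfl]
    ring
  · intro ξ _ hξ
    by_cases hr : ξ ∈ Set.range i
    · obtain ⟨w, rfl⟩ := hr
      by_cases h0 : α (i w) = 0
      · simp [h0]
      by_cases hsp : i w ⤳ i d
      · exact absurd (Finset.mem_image_of_mem i (hS w h0 (i.isEmbedding.isInducing.specializes_iff.1 hsp))) hξ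
      · rw [CycC1Lib.secDivFun_eq_zero_of_not fun h => hsp h.1, CycC1Lib.secDivFun_eq_zero_of_not fun h => hsp h.1]
        simp
    · rw [hout ξ hr d, sub_self]

/-- The sections of the Gysin map do not vanish. -/
theorem gysinChoice_ne_zero {L : X.Modules} (s : L.presheaf.obj (Opposite.op ⊤))
    {w : (ξ : X) → Cyc.secFibre L ξ} (hw : ∀ ξ, w ξ ≠ 0) (ξ : X) : Cyc.gysinChoice L s w ξ ≠ 0 := by
  unfold Cyc.gysinChoice
  split_ifs with h
  · exact h
  · exact hw ξ

theorem gysinChoice_of_not_mem {L : X.Modules} {s : L.presheaf.obj (Opposite.op ⊤)} {i : D ⟶ X}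
    (hD : Cyc.IsZeroSchemeOf i L s) (w : (ξ : X) → Cyc.secFibre L ξ) {ξ : X} (hξ : ξ ∉ Set.range i) :
    Cyc.gysinChoice L s w ξ = fib L (L.presheaf.germ ⊤ ξ trivial s) := by
  unfold Cyc.gysinChoice
  rw [if_pos]
  intro h
  exact hξ (hD.1.ge h)

theorem exists_zero_coef {L : X.Modules} {U : X.Opens} {e : Γ(L, U)} (he : AmpleLib.GenOn L e) {i : D ⟶ X}
    {s : L.presheaf.obj (Opposite.op ⊤)} (hD : Cyc.IsZeroSchemeOf i L s) {d : D} (hU : i d ∈ U)
    {a : X.presheaf.stalk (i d)}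
    (ha : a • L.presheaf.germ U (i d) hU e = L.presheaf.germ ⊤ (i d) trivial s) :
    RingHom.ker (i.stalkMap d).hom = Ideal.span {a} := by
  obtain ⟨t, f, ht, hst, hker⟩ := hD.2 d
  obtain ⟨b, hb⟩ := (he.genAt hU).2 t
  obtain ⟨c, hc⟩ := Submodule.mem_span_singleton.1 (ht.ge (Submodule.mem_top (x := L.presheaf.germ U (i d) hU e)))
  have hbu : IsUnit b := IsUnit.of_mul_eq_one c ((he.genAt hU).1 (by
    show (b * c) • L.presheaf.germ U (i d) hU e = (1 : X.presheaf.stalk _) • L.presheaf.germ U (i d) hU e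
    rw [mul_comm b c, mul_smul, one_smul]
    exact (congrArg (c • ·) hb).trans hc))
  have hcoef : f * b = a := (he.genAt hU).1 (by
    show (f * b) • L.presheaf.germ U (i d) hU e = a • L.presheaf.germ U (i d) hU e
    rw [ha, mul_smul, hst]
    exact congrArg (f • ·) hb)
  rw [hker, ← hcoef, Ideal.span_singleton_mul_right_unit hbu]

theorem specMap_ne_zero_of_coord {L : X.Modules} {U : X.Opens} {e : Γ(L, U)} (he : AmpleLib.GenOn L e)
    {s : L.presheaf.obj (Opposite.op ⊤)} {ξ x : X} (h : ξ ⤳ x) (hU : x ∈ U) {a : X.presheaf.stalk x}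
    (ha : a • L.presheaf.germ U x hU e = L.presheaf.germ ⊤ x trivial s)
    (hne : fib L (L.presheaf.germ ⊤ ξ trivial s) ≠ 0) :
    Cyc.specMap x ξ h a ≠ 0 ∧ fib L (L.presheaf.germ ⊤ ξ trivial s) = X.presheaf.stalkSpecializes h a •
      fib L (L.presheaf.germ U ξ (h.mem_open U.isOpen hU) e) := by
  have hs : fib L (L.presheaf.germ ⊤ ξ trivial s) = X.presheaf.stalkSpecializes h a •
      fib L (L.presheaf.germ U ξ (h.mem_open U.isOpen hU) e) := by
    have := congrArg (L.presheaf.stalkSpecializes h) ha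
    rw [CycC1Lib.stalkSpecializes_smul, TopCat.Presheaf.germ_stalkSpecializes_apply,
      TopCat.Presheaf.germ_stalkSpecializes_apply] at this
    exact (congrArg (fib L) this.symm).trans (Submodule.Quotient.mk_smul _ _ _)
  exact ⟨CycC1Lib.residue_coord_ne_zero (he.genAt _) hne hs, hs⟩

/-- Two sections with the same zero scheme have the same divisor on every integral subscheme not in it. -/
theorem secDivFun_eq_of_zeroScheme (hX : Cyc.IsSetup X δ) {L : X.Modules} (hL : PicF.IsInvertible L)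
    {i : D ⟶ X} {s s' : L.presheaf.obj (Opposite.op ⊤)} (hD : Cyc.IsZeroSchemeOf i L s)
    (hD' : Cyc.IsZeroSchemeOf i L s') {ξ : X} (hξ : ξ ∉ Set.range i) (x : X) :
    Cyc.secDivFun δ L ξ (fib L (L.presheaf.germ ⊤ ξ trivial s)) x =
      Cyc.secDivFun δ L ξ (fib L (L.presheaf.germ ⊤ ξ trivial s')) x := by
  by_cases h : ξ ⤳ x ∧ δ x + 1 = δ ξ
  swap
  · rw [CycC1Lib.secDivFun_eq_zero_of_not h, CycC1Lib.secDivFun_eq_zero_of_not h]
  obtain ⟨U, e, hxU, he⟩ := TwistLib.exists_genOn hL x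
  obtain ⟨a, ha⟩ := (he.genAt hxU).2 (L.presheaf.germ ⊤ x trivial s)
  obtain ⟨a', ha'⟩ := (he.genAt hxU).2 (L.presheaf.germ ⊤ x trivial s')
  obtain ⟨hne, hs⟩ := specMap_ne_zero_of_coord he h.1 hxU ha fun h0 => hξ (hD.1.ge h0)
  obtain ⟨-, hs'⟩ := specMap_ne_zero_of_coord he h.1 hxU ha' fun h0 => hξ (hD'.1.ge h0)
  obtain ⟨c, hc, hca⟩ : ∃ c : X.presheaf.stalk x, IsUnit c ∧ a' = c * a := by
    by_cases hr : x ∈ Set.range i
    · obtain ⟨d, rfl⟩ := hr
      have h1 : Ideal.span {a} = Ideal.span {a'} :=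
        (exists_zero_coef he hD hxU ha).symm.trans (exists_zero_coef he hD' hxU ha')
      obtain ⟨c, hc⟩ := Ideal.mem_span_singleton'.1 (h1.ge (Ideal.mem_span_singleton_self a'))
      obtain ⟨c', hc'⟩ := Ideal.mem_span_singleton'.1 (h1.le (Ideal.mem_span_singleton_self a))
      refine ⟨c, ?_, hc.symm⟩
      by_contra hu
      have hu1 : IsUnit (1 - c' * c) := by
        refine (IsLocalRing.isUnit_or_isUnit_one_sub_self (c' * c)).resolve_left fun h' => hu ?_
        exact isUnit_of_mul_isUnit_right h'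
      have h0 : (1 - c' * c) * a = 0 := by rw [sub_mul, one_mul, mul_assoc, hc, hc', sub_self]
      rw [IsUnit.mul_right_eq_zero hu1] at h0
      rw [h0, map_zero] at hne
      exact hne rfl
    · have hunit : ∀ (t : L.presheaf.obj (Opposite.op ⊤)), Cyc.IsZeroSchemeOf i L t →
          ∀ b : X.presheaf.stalk x, b • L.presheaf.germ U x hxU e = L.presheaf.germ ⊤ x trivial t → IsUnit b := by
        intro t ht b hb
        by_contra hu
        refine hr (ht.1.ge ?_)
        show fib L _ = 0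
        rw [← hb, fib, Submodule.Quotient.mk_smul, CycC1Lib.fib_smul_eq_zero_iff (he.genAt hxU)]
        exact (residue_eq_zero_iff _).2 ((mem_maximalIdeal _).2 hu)
      obtain ⟨b, hb⟩ := (hunit s hD a ha).exists_left_inv
      exact ⟨a' * b, (hunit s' hD' a' ha').mul (IsUnit.of_mul_eq_one a hb), by rw [mul_assoc, hb, mul_one]⟩
  rw [CycC1Lib.secDivFun_eq_divFun hX he hxU _ hs, CycC1Lib.secDivFun_eq_divFun hX he hxU _ hs']
  simp only [Cyc.divFun, dif_pos h]
  show Cyc.ordAt x ξ h.1 (Cyc.specMap x ξ h.1 a) = Cyc.ordAt x ξ h.1 (Cyc.specMap x ξ h.1 a')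
  rw [hca, map_mul, mul_comm (Cyc.specMap x ξ h.1 c), CycC1Lib.ordAt_unit_mul hX h.1 h.2 hc]

/-- The divisor of the pulled back Gysin sections agrees with the Gysin sections of any section
cutting out the pulled back zero scheme. -/
theorem secDivFun_gysinChoice_pullback {X' : Scheme.{u}} {δ' : X' → ℤ} (hX' : Cyc.IsSetup X' δ') (f : X' ⟶ X)
    {L : X.Modules} (hL : PicF.IsInvertible L) (hL' : PicF.IsInvertible (KFlatLib.pb f L))
    {i : D ⟶ X} [IsClosedImmersion i] {s : L.presheaf.obj (Opposite.op ⊤)} (hD : Cyc.IsZeroSchemeOf i L s)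
    {s' : (KFlatLib.pb f L).presheaf.obj (Opposite.op ⊤)}
    (hD' : Cyc.IsZeroSchemeOf (pullback.fst f i) (KFlatLib.pb f L) s') (w : (ξ : X) → Cyc.secFibre L ξ)
    (w' : (ξ : X') → Cyc.secFibre (KFlatLib.pb f L) ξ) {ξ : X'} (hξ : ξ ∉ Set.range (pullback.fst f i)) (x : X') :
    Cyc.secDivFun δ' (KFlatLib.pb f L) ξ (pbFib f L ξ (Cyc.gysinChoice L s w (f ξ))) x =
      Cyc.secDivFun δ' (KFlatLib.pb f L) ξ (Cyc.gysinChoice (KFlatLib.pb f L) s' w' ξ) x := by
  have hout : f ξ ∉ Set.range i := fun h => hξ (by rw [Scheme.Pullback.range_fst]; exact h)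
  rw [gysinChoice_of_not_mem hD w hout, gysinChoice_of_not_mem hD' w' hξ, pbFib_germ f hL s ξ]
  exact secDivFun_eq_of_zeroScheme hX' hL' (isZeroSchemeOf_pullback f i hL s hD) hD' hξ x

end CycGysLib

end
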