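import Mathlib
import Groth.Prelude.Def_C1
import Groth.Agent.CycGysLib.Basic
import Groth.Agent.CycPushLib.Vanish
import Groth.Agent.AlgSpLib.TrdegInv

/-!
# Restriction to a closed subscheme and proper pushforward
-/

set_option autoImplicit false
set_option linter.style.haveILetI false
set_option linter.unusedSectionVars false

universe u

open AlgebraicGeometry CategoryTheory CategoryTheory.Limits IsLocalRing Opposite

noncomputable section

namespace CycGysLib

variable {X X' D : Scheme.{u}} {δ : X → ℤ} {δ' : X' → ℤ}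

theorem square_apply (f : X' ⟶ X) (i : D ⟶ X) (z : ↥(pullback f i)) :
    f (pullback.fst f i z) = i (pullback.snd f i z) := by
  rw [← Scheme.Hom.comp_apply, pullback.condition, Scheme.Hom.comp_apply]

theorem residueDegree_snd (f : X' ⟶ X) (i : D ⟶ X) [IsClosedImmersion i] (z : ↥(pullback f i)) :
    (pullback.snd f i).residueDegree z = f.residueDegree (pullback.fst f i z) := by
  have h := CycPushLib.residueDegree_congr (pullback.condition (f := f) (g := i)) z
  rw [CycPushLib.residueDegree_comp, CycPushLib.residueDegree_comp,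
    CycPushLib.residueDegree_eq_one_of_preimmersion (pullback.fst f i),
    CycPushLib.residueDegree_eq_one_of_preimmersion i] at h
  simpa using h.symm

theorem resTrdeg_snd (f : X' ⟶ X) (i : D ⟶ X) [IsClosedImmersion i] (z : ↥(pullback f i)) :
    Dual3.resTrdeg (pullback.snd f i) z = Dual3.resTrdeg f (pullback.fst f i z) := by
  have h : Dual3.resTrdeg (pullback.fst f i ≫ f) z = Dual3.resTrdeg (pullback.snd f i ≫ i) z := by
    rw [pullback.condition]
  rw [AlgSpLib.resTrdeg_comp, AlgSpLib.resTrdeg_comp, CycPushLib.trdeg_preimmersion_left (pullback.fst f i),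
    CycPushLib.trdeg_preimmersion_left i, add_zero, zero_add] at h
  exact h.symm

theorem deltaCompat_snd (f : X' ⟶ X) (i : D ⟶ X) [IsClosedImmersion i] (hδ : Cyc.DeltaCompat f δ' δ) :
    Cyc.DeltaCompat (pullback.snd f i) (fun z => δ' (pullback.fst f i z)) (fun d => δ (i d)) := by
  intro z
  obtain ⟨n, hn, hd⟩ := hδ (pullback.fst f i z)
  refine ⟨n, (resTrdeg_snd f i z).trans hn, ?_⟩
  show δ' (pullback.fst f i z) = δ (i (pullback.snd f i z)) + n
  rw [hd, square_apply f i z]

/-- Proper pushforward commutes with restriction to a closed subscheme. -/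
theorem map_restrict (f : X' ⟶ X) [IsProper f] (i : D ⟶ X) [IsClosedImmersion i] (β : AlgebraicCycle X' ℤ) (d : D) :
    AlgebraicCycle.map (pullback.snd f i) (fun z => δ' (pullback.fst f i z)) (fun d => δ (i d))
        (restrictCyc (pullback.fst f i) β) d =
      AlgebraicCycle.map f δ' δ β (i d) := by
  classical
  show ∑ᶠ z ∈ pullback.snd f i ⁻¹' {d}, β (pullback.fst f i z) *
      ((AlgebraicCycle.mapCoeff (pullback.snd f i) (fun z => δ' (pullback.fst f i z)) (fun d => δ (i d)) z : ℕ) : ℤ) =
    ∑ᶠ x ∈ f ⁻¹' {i d}, β x * ((AlgebraicCycle.mapCoeff f δ' δ x : ℕ) : ℤ)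
  have hset : f ⁻¹' {i d} = pullback.fst f i '' (pullback.snd f i ⁻¹' {d}) := by
    ext x
    simp only [Set.mem_preimage, Set.mem_singleton_iff, Set.mem_image]
    constructor
    · intro hx
      obtain ⟨z, rfl⟩ : x ∈ Set.range (pullback.fst f i) := by
        rw [Scheme.Pullback.range_fst]
        exact ⟨d, hx.symm⟩
      exact ⟨z, i.isClosedEmbedding.injective ((square_apply f i z).symm.trans hx), rfl⟩
    · rintro ⟨z, rfl, rfl⟩
      exact square_apply f i z
  rw [hset, finsum_mem_image (pullback.fst f i).isClosedEmbedding.injective.injOn]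
  refine finsum_mem_congr rfl fun z _ => ?_
  simp only [AlgebraicCycle.mapCoeff, residueDegree_snd f i z, square_apply f i z]

end CycGysLib

end
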