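import Mathlib
import Groth.Prelude.Def_C1
import Groth.Agent.CycGysLib.Square

/-!
# Restriction to a zero scheme and flat pullback
-/

set_option autoImplicit false
set_option linter.style.haveILetI false
set_option linter.unusedSectionVars false

universe u

open AlgebraicGeometry CategoryTheory CategoryTheory.Limits IsLocalRing Opposite

noncomputable section

namespace CycGysLib

variable {X X' D : Scheme.{u}} {δ : X → ℤ} {δ' : X' → ℤ}

theorem map_maximalIdeal_of_surjective {R S : Type u} [CommRing R] [IsLocalRing R] [CommRing S] [IsLocalRing S]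
    (π : R →+* S) (hπ : Function.Surjective π) : (maximalIdeal R).map π = maximalIdeal S := by
  haveI : IsLocalHom π := hπ.isLocalHom π
  refine le_antisymm (Ideal.map_le_iff_le_comap.2 (IsLocalRing.maximalIdeal_comap π).ge) fun a ha => ?_
  obtain ⟨b, rfl⟩ := hπ a
  exact Ideal.mem_map_of_mem π ((mem_maximalIdeal _).2 fun hb => (mem_maximalIdeal _).1 ha (hb.map π))

theorem fibIdeal_comp {Z : Scheme.{u}} (f : X' ⟶ X) (g : X ⟶ Z) (x : X') :
    CycLimLib.fibIdeal (f ≫ g) x = (CycLimLib.fibIdeal g (f x)).map (f.stalkMap x).hom := by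
  simp only [CycLimLib.fibIdeal, Ideal.map_map]
  rw [Scheme.Hom.stalkMap_comp]
  rfl

theorem fibIdeal_congr {f g : X' ⟶ X} (h : f = g) (x : X') : CycLimLib.fibIdeal f x = CycLimLib.fibIdeal g x := by
  subst h
  rfl

theorem fibIdeal_snd (f : X' ⟶ X) (i : D ⟶ X) [IsClosedImmersion i] (z : ↥(pullback f i)) :
    CycLimLib.fibIdeal (pullback.snd f i) z =
      (CycLimLib.fibIdeal f (pullback.fst f i z)).map ((pullback.fst f i).stalkMap z).hom := by
  rw [← fibIdeal_comp, fibIdeal_congr pullback.condition, fibIdeal_comp]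
  unfold CycLimLib.fibIdeal
  rw [map_maximalIdeal_of_surjective _ (i.stalkMap_surjective _)]

theorem ker_fst_le_fibIdeal (f : X' ⟶ X) (i : D ⟶ X) [IsClosedImmersion i] {L : X.Modules}
    (hL : PicF.IsInvertible L) (s : L.presheaf.obj (Opposite.op ⊤)) (hD : Cyc.IsZeroSchemeOf i L s)
    (z : ↥(pullback f i)) :
    RingHom.ker ((pullback.fst f i).stalkMap z).hom ≤ CycLimLib.fibIdeal f (pullback.fst f i z) := by
  obtain ⟨U, e, hU, he⟩ := TwistLib.exists_genOn hL (f (pullback.fst f i z))
  obtain ⟨φ, hφ⟩ := (he.genAt hU).2 (L.presheaf.germ ⊤ (f (pullback.fst f i z)) trivial s)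
  have he' : AmpleLib.GenOn (KFlatLib.pb f L) (W := f ⁻¹ᵁ U) (KFlatLib.puSec f e) :=
    TwistLib.genOn_of_genAt fun w hw => TwistLib.GenAt.puSec f (he.genAt hw)
  have hcoef : f.stalkMap (pullback.fst f i z) φ • (KFlatLib.pb f L).presheaf.germ (f ⁻¹ᵁ U) (pullback.fst f i z) hU
      (KFlatLib.puSec f e) = (KFlatLib.pb f L).presheaf.germ ⊤ (pullback.fst f i z) trivial (pbSec f s) := by
    have h1 := CycC1Lib.puStalk_germ_smul f L (U := ⊤) (pullback.fst f i z) trivial s 1
    rw [one_smul, map_one, one_smul] at h1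
    exact (CycC1Lib.puStalk_germ_smul f L _ hU e φ).symm.trans ((congrArg _ hφ).trans h1)
  rw [exists_zero_coef he' (isZeroSchemeOf_pullback f i hL s hD) hU hcoef, Ideal.span_le, Set.singleton_subset_iff]
  refine Ideal.mem_map_of_mem _ ((residue_eq_zero_iff φ).1 ?_)
  have h0 : CycC1Lib.fib L (L.presheaf.germ ⊤ (f (pullback.fst f i z)) trivial s) = 0 :=
    hD.1.le ⟨pullback.snd f i z, (square_apply f i z).symm⟩
  rw [← hφ] at h0
  exact (CycC1Lib.fib_smul_eq_zero_iff (he.genAt hU) φ).1 ((Submodule.Quotient.mk_smul _ _ _).symm.trans h0)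

/-- Flat pullback commutes with restriction to a zero scheme. -/
theorem pullFun_snd (f : X' ⟶ X) (i : D ⟶ X) [IsClosedImmersion i] {L : X.Modules}
    (hL : PicF.IsInvertible L) (s : L.presheaf.obj (Opposite.op ⊤)) (hD : Cyc.IsZeroSchemeOf i L s) (r : ℤ)
    (F : X → ℤ) (z : ↥(pullback f i)) :
    Cyc.pullFun (pullback.snd f i) (fun z => δ' (pullback.fst f i z)) (fun d => δ (i d)) r (fun d => F (i d)) z =
      Cyc.pullFun f δ' δ r F (pullback.fst f i z) := by
  have hl : Module.length ((pullback f i).presheaf.stalk z)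
      ((pullback f i).presheaf.stalk z ⧸ CycLimLib.fibIdeal (pullback.snd f i) z) =
      Module.length (X'.presheaf.stalk (pullback.fst f i z))
        (X'.presheaf.stalk (pullback.fst f i z) ⧸ CycLimLib.fibIdeal f (pullback.fst f i z)) := by
    rw [fibIdeal_snd]
    exact CycPushLib.length_quot_map_surjective _ ((pullback.fst f i).stalkMap_surjective z) _
      (ker_fst_le_fibIdeal f i hL s hD z)
  simp only [Cyc.pullFun, square_apply f i z]
  exact if_congr Iff.rfl (congrArg (fun n : ℕ∞ => F (i (pullback.snd f i z)) * (n.toNat : ℤ)) hl) rfl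

end CycGysLib

end
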