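import Mathlib
import Groth.Prelude.Def_C1
import Groth.Agent.CycC1Lib.Zero

/-!
# Lengths of one-dimensional quotients of local rings
-/

set_option autoImplicit false
set_option linter.style.haveILetI false
set_option linter.unusedSectionVars false

universe u

open AlgebraicGeometry CategoryTheory IsLocalRing Opposite
open scoped Pointwise

noncomputable section

namespace CycGysLib

variable {X : Scheme.{u}}

/-- The length of a one-dimensional quotient of a local ring, as a sum over the branches. -/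
theorem length_quot_sup_eq_finsum {δ : X → ℤ} (hX : Cyc.IsSetup X δ) {x : X} (J : Ideal (X.presheaf.stalk x))
    {φ : X.presheaf.stalk x}
    (hdrop : ∀ (ξ : X) (h : ξ ⤳ x), ξ ≠ x → J ≤ (CycDivLib.primeOf h).asIdeal → δ ξ = δ x + 1)
    (hcontains : ∀ {ξ : X} (h : ξ ⤳ x), J ≤ (CycDivLib.primeOf h).asIdeal →
      φ ∈ (CycDivLib.primeOf h).asIdeal → ξ = x)
    (hfinlen : ∀ {ξ : X} (h : ξ ⤳ x), ξ ≠ x → J ≤ (CycDivLib.primeOf h).asIdeal →
      Module.length (X.presheaf.stalk ξ) (X.presheaf.stalk ξ ⧸ J.map (X.presheaf.stalkSpecializes h).hom) ≠ ⊤)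
    (hnzd : ∀ a : X.presheaf.stalk x, φ * a ∈ J → a ∈ J) (F G : X → ℤ)
    (hF : ∀ (ξ : X) (h : ξ ⤳ x), δ x + 1 = δ ξ → F ξ = Cyc.ordAt x ξ h (Cyc.specMap x ξ h φ))
    (hF0 : ∀ ξ : X, ¬ ξ ⤳ x → F ξ = 0)
    (hG : ∀ (ξ : X) (h : ξ ⤳ x), ξ ≠ x → J ≤ (CycDivLib.primeOf h).asIdeal → G ξ =
      ((Module.length (X.presheaf.stalk ξ) (X.presheaf.stalk ξ ⧸ J.map (X.presheaf.stalkSpecializes h).hom)).toNat : ℤ))
    (hG0 : ∀ (ξ : X) (h : ξ ⤳ x), G ξ ≠ 0 → J ≤ (CycDivLib.primeOf h).asIdeal ∧ ξ ≠ x) :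
    ((Module.length (X.presheaf.stalk x) (X.presheaf.stalk x ⧸ J ⊔ Ideal.span {φ})).toNat : ℤ) =
      ∑ᶠ ξ : X, G ξ * F ξ := by
  classical
  haveI := hX.1
  let R : Type u := X.presheaf.stalk x
  let M : Type u := R ⧸ J
  let pt : PrimeSpectrum R → X := EquidimLib.stalkPt x
  have hpt : ∀ P, pt P ⤳ x := EquidimLib.stalkPt_specializes x
  have hprime : ∀ P : PrimeSpectrum R, CycDivLib.primeOf (hpt P) = P := fun P =>
    EquidimLib.stalkPt_injective x (CycDivLib.stalkPt_primeOf (hpt P))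
  have hmax : ∀ P : PrimeSpectrum R, pt P = x ↔ P.asIdeal = maximalIdeal R := fun P => by
    constructor
    · intro h
      exact congrArg PrimeSpectrum.asIdeal
        (EquidimLib.stalkPt_injective x (h.trans Scheme.fromSpecStalk_closedPoint.symm) : P = closedPoint R)
    · intro h
      rw [show P = closedPoint R from PrimeSpectrum.ext h]
      exact Scheme.fromSpecStalk_closedPoint
  have hφP : ∀ P : PrimeSpectrum R, J ≤ P.asIdeal → φ ∈ P.asIdeal → P.asIdeal = maximalIdeal R := fun P hJ hP =>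
    (hmax P).1 (hcontains (hpt P) (by rw [hprime]; exact hJ) (by rw [hprime]; exact hP))
  have hne' : ∀ P : PrimeSpectrum R, J ≤ P.asIdeal → P.asIdeal ≠ maximalIdeal R → δ (pt P) = δ x + 1 := fun P hJ hP =>
    hdrop _ (hpt P) (fun h => hP ((hmax P).1 h)) (by rw [hprime]; exact hJ)
  have hmin : ∀ P Q : PrimeSpectrum R, J ≤ Q.asIdeal → P.asIdeal ≠ maximalIdeal R → Q.asIdeal ≤ P.asIdeal → Q = P := by
    intro P Q hJ hP hle
    by_contra hQP
    have hQ : Q.asIdeal ≠ maximalIdeal R := fun h => hP (le_antisymm (le_maximalIdeal P.2.ne_top) (h ▸ hle))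
    have h1 := (hX.2.2 _ _ (((PrimeSpectrum.le_iff_specializes Q P).1 hle).map (X.fromSpecStalk x).continuous)
      (fun h => hQP ((X.fromSpecStalk x).isEmbedding.injective h))).1
    change δ (pt P) < δ (pt Q) at h1
    rw [hne' Q hJ hQ, hne' P (hJ.trans hle) hP] at h1
    exact lt_irrefl _ h1
  have hsuppJ : ∀ P : PrimeSpectrum R, P ∈ Module.support R M ↔ J ≤ P.asIdeal := fun P => by
    rw [Module.support_eq_zeroLocus, Ideal.annihilator_quotient, PrimeSpectrum.mem_zeroLocus]
    rfl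
  have hdim1 : Module.supportDim R M ≤ 1 := by
    rw [Module.supportDim, Order.krullDim_le_one_iff]
    rintro ⟨P, hP⟩
    by_cases hPm : P.asIdeal = maximalIdeal R
    · refine Or.inr ?_
      rintro ⟨Q, hQ⟩ hle
      change Q.asIdeal ≤ P.asIdeal
      rw [hPm]
      exact le_maximalIdeal Q.2.ne_top
    · refine Or.inl ?_
      rintro ⟨Q, hQ⟩ hle
      exact le_of_eq (Subtype.ext (hmin P Q ((hsuppJ Q).1 hQ) hPm hle).symm)
  have h1833 := Groth.Agent.S1833.result R M φ hdim1 (by
      rw [Module.supportDim, Order.krullDim_nonpos_iff_forall_isMax]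
      rintro ⟨P, hP⟩ ⟨Q, hQ⟩ hle
      have hmem : ∀ P : PrimeSpectrum R, P ∈ Module.support R (M ⧸ φ • (⊤ : Submodule R M)) →
          J ≤ P.asIdeal ∧ φ ∈ P.asIdeal := by
        intro P hP
        refine ⟨(hsuppJ P).1 (Module.support_subset_of_surjective _ (Submodule.mkQ_surjective _) hP), ?_⟩
        rw [Module.support_eq_zeroLocus] at hP
        refine hP ?_
        rw [SetLike.mem_coe, Module.mem_annihilator]
        intro m
        obtain ⟨m, rfl⟩ := Submodule.Quotient.mk_surjective _ m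
        rw [← Submodule.Quotient.mk_smul, Submodule.Quotient.mk_eq_zero]
        exact Submodule.smul_mem_pointwise_smul m φ ⊤ trivial
      refine le_of_eq (Subtype.ext (PrimeSpectrum.ext ?_))
      show Q.asIdeal = P.asIdeal
      rw [hφP P (hmem P hP).1 (hmem P hP).2, hφP Q (hmem Q hQ).1 (hmem Q hQ).2])
  have hker : LinearMap.ker (LinearMap.lsmul R M φ) = ⊥ := by
    rw [LinearMap.ker_eq_bot']
    intro m hm
    obtain ⟨a, rfl⟩ := Submodule.Quotient.mk_surjective _ m
    change φ • (Submodule.Quotient.mk a : M) = 0 at hm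
    rw [← Submodule.Quotient.mk_smul, Submodule.Quotient.mk_eq_zero] at hm
    exact (Submodule.Quotient.mk_eq_zero _).2 (hnzd a hm)
  have hquot : Module.length R (M ⧸ φ • (⊤ : Submodule R M)) = Module.length R (R ⧸ J ⊔ Ideal.span {φ}) := by
    have h : φ • (⊤ : Submodule R M) = Submodule.map (Submodule.mkQ J) (Ideal.span {φ} : Submodule R R) := by
      rw [← Submodule.ideal_span_singleton_smul, ← Submodule.range_mkQ J, LinearMap.range_eq_map,
        ← Submodule.map_smul'', smul_eq_mul, Ideal.mul_top]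
    rw [h, show Submodule.map (Submodule.mkQ J) (Ideal.span {φ} : Submodule R R) =
      Submodule.map (Submodule.mkQ J) (J ⊔ Ideal.span {φ}) from by rw [Submodule.map_sup, Submodule.mkQ_map_self, bot_sup_eq]]
    exact (Submodule.quotientQuotientEquivQuotient J (J ⊔ Ideal.span {φ}) le_sup_left).length_eq
  rw [hker, Module.length_bot, zero_add, hquot] at h1833
  -- the finite set of non-maximal primes
  have hfin : {P : PrimeSpectrum R | J ≤ P.asIdeal ∧ P.asIdeal ≠ maximalIdeal R}.Finite := by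
    refine ((Ideal.finite_minimalPrimes_of_isNoetherianRing R J).preimage
      (f := PrimeSpectrum.asIdeal) (fun a _ b _ h => PrimeSpectrum.ext h)).subset fun P hP => ?_
    exact ⟨⟨P.2, hP.1⟩, fun Q hQ hle => (congrArg PrimeSpectrum.asIdeal (hmin P ⟨Q, hQ.1⟩ hQ.2 hP.2 hle)).ge⟩
  let T := hfin.toFinset
  rw [finsum_cond_eq_sum_of_cond_iff (t := T) _ (fun {P} _ => by
    rw [Set.Finite.mem_toFinset, hsuppJ]
    rfl)] at h1833
  have hne : ∀ P ∈ T, pt P ≠ x := fun P hP h => (hfin.mem_toFinset.1 hP).2 ((hmax P).1 h)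
  have hterm : ∀ P ∈ T, Ring.ord (R ⧸ P.asIdeal) (Ideal.Quotient.mk P.asIdeal φ) ≠ ⊤ ∧
      Module.length (Localization.AtPrime P.asIdeal) (LocalizedModule P.asIdeal.primeCompl M) =
        Module.length (X.presheaf.stalk (pt P))
          (X.presheaf.stalk (pt P) ⧸ J.map (X.presheaf.stalkSpecializes (hpt P)).hom) ∧
      Module.length (X.presheaf.stalk (pt P))
          (X.presheaf.stalk (pt P) ⧸ J.map (X.presheaf.stalkSpecializes (hpt P)).hom) ≠ ⊤ := by
    intro P hP
    obtain ⟨hJ, hPm⟩ := hfin.mem_toFinset.1 hP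
    letI := (X.presheaf.stalkSpecializes (hpt P)).hom.toAlgebra
    haveI : IsLocalization.AtPrime (X.presheaf.stalk (pt P)) P.asIdeal := by
      have h := CycDivLib.isLocalization_stalkSpecializes (hpt P)
      rwa [hprime] at h
    refine ⟨?_, CycDivLib.length_localized_quotient P.asIdeal (X.presheaf.stalk (pt P)) J, ?_⟩
    · haveI : Ring.KrullDimLE 1 (R ⧸ P.asIdeal) := Ring.krullDimLE_iff.2 (by
        have h := CycPushLib.dimBetween_le_one_of_drop hX (hpt P) (hne' P hJ hPm).symm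
        rw [← CycDivLib.dim_quotient (hpt P), hprime] at h
        exact h)
      refine Ring.ord_ne_top (mem_nonZeroDivisors_of_ne_zero fun h => hPm ?_)
      exact hφP P hJ (Ideal.Quotient.eq_zero_iff_mem.1 h)
    · exact hfinlen (hpt P) (hne P hP) (by rw [hprime]; exact hJ)
  rw [finsum_eq_sum_of_support_subset _ (s := T.image pt) fun ξ hξ => ?_,
    Finset.sum_image fun a _ b _ h => EquidimLib.stalkPt_injective x h, h1833]
  swap
  · have hsp : ξ ⤳ x := by
      by_contra h
      exact right_ne_zero_of_mul hξ (hF0 ξ h)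
    have h' := hG0 ξ hsp (left_ne_zero_of_mul hξ)
    rw [Finset.mem_coe, Finset.mem_image]
    refine ⟨CycDivLib.primeOf hsp, hfin.mem_toFinset.2 ⟨h'.1, fun hP => ?_⟩, CycDivLib.stalkPt_primeOf hsp⟩
    have := (hmax _).2 hP
    rw [show pt (CycDivLib.primeOf hsp) = ξ from CycDivLib.stalkPt_primeOf hsp] at this
    exact h'.2 this
  refine (CycDivLib.toNat_sum T _ fun P hP => WithTop.mul_ne_top (hterm P hP).1
    ((hterm P hP).2.1.trans_ne (hterm P hP).2.2)).trans (Finset.sum_congr rfl fun P hP => ?_)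
  obtain ⟨hJP, hPm⟩ := hfin.mem_toFinset.1 hP
  have hd' : δ (pt P) = δ x + 1 := hne' P hJP hPm
  refine ((congrArg Nat.cast (ENat.toNat_mul _ _)).trans (Nat.cast_mul _ _)).trans ?_
  rw [hG _ (hpt P) (hne P hP) (by rw [hprime]; exact hJP), hF _ (hpt P) hd'.symm, (hterm P hP).2.1, mul_comm]
  refine congrArg₂ (· * ·) rfl ?_
  have hnz : Cyc.specMap x (pt P) (hpt P) φ ≠ 0 := fun h => hne P hP (hcontains (hpt P) (by rw [hprime]; exact hJP) ((CycDivLib.specMap_eq_zero_iff _ _).1 h))
  rw [CycDivLib.ordAt_specMap (hpt P) (CycPushLib.dimBetween_le_one_of_drop hX (hpt P) hd'.symm) hnz, hprime,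
    CycDivLib.length_quot_quot]


end CycGysLib

end
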