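import Mathlib
import Groth.Prelude.Def_C1
import Groth.Prelude.Def_Coh
import Groth.Agent.CycGysLib.FibreLen
import Groth.Agent.CycGysLib.Basic
import Groth.Agent.DvrLenLib.Stalks
import Groth.Agent.DepthLib.RegAB
import Groth.Agent.S1833
import Groth.Agent.S1916

/-!
# The Gysin map of the cycle of a coherent sheaf
-/

set_option autoImplicit false
set_option linter.style.haveILetI false
set_option linter.unusedSectionVars false

universe u

open AlgebraicGeometry CategoryTheory IsLocalRing Opposite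
open scoped Pointwise TensorProduct

noncomputable section

namespace CycGysLib

open CycC1Lib (fib)

variable {X D : Scheme.{u}} {δ : X → ℤ}

/-- A generator spans. -/
theorem span_germ_eq_top {L : X.Modules} {U : X.Opens} {e : Γ(L, U)} {x : X} (hx : x ∈ U)
    (he : AmpleLib.GenAt L e hx) :
    Submodule.span (X.presheaf.stalk x) {L.presheaf.germ U x hx e} = ⊤ :=
  eq_top_iff.2 fun v _ => by
    obtain ⟨c, rfl⟩ := he.2 v
    exact Submodule.smul_mem _ c (Submodule.mem_span_singleton_self _)

/-- A section regular on a sheaf does not vanish at the top points of its support. -/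
theorem fib_ne_zero_of_regular (hX : Cyc.IsSetup X δ) {L : X.Modules} (hL : PicF.IsInvertible L)
    {s : L.presheaf.obj (Opposite.op ⊤)} {k : ℤ} {F : X.Modules} (hF : Coh.IsCoh F)
    (hdim : ∀ x : X, Nontrivial (F.presheaf.stalk x) → δ x ≤ k + 1)
    (hreg : ∀ (x : X) (t : L.presheaf.stalk x) (f : X.presheaf.stalk x),
      Submodule.span (X.presheaf.stalk x) {t} = ⊤ → (L.presheaf.germ ⊤ x trivial) s = f • t →
        Function.Injective (fun m : F.presheaf.stalk x => f • m))
    {ξ : X} (hξ : Nontrivial (F.presheaf.stalk ξ)) (hd : δ ξ = k + 1) :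
    fib L (L.presheaf.germ ⊤ ξ trivial s) ≠ 0 := by
  haveI := hX.1
  haveI := hF.1
  haveI := DepthLib.finite_stalk F hF.2 ξ
  intro h0
  obtain ⟨U, e, hξU, he⟩ := TwistLib.exists_genOn hL ξ
  obtain ⟨φ, hφ⟩ := (he.genAt hξU).2 (L.presheaf.germ ⊤ ξ trivial s)
  dsimp only at hφ
  have hmem : φ ∈ maximalIdeal (X.presheaf.stalk ξ) := by
    rw [← hφ, fib, Submodule.Quotient.mk_smul, CycC1Lib.fib_smul_eq_zero_iff (he.genAt hξU)] at h0
    exact (residue_eq_zero_iff φ).1 h0
  have hinj := hreg ξ _ φ (span_germ_eq_top hξU (he.genAt hξU)) hφ.symm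
  have hlen : Module.length (X.presheaf.stalk ξ) (F.presheaf.stalk ξ) ≠ ⊤ := by
    refine ((Groth.Agent.S1916.result X F hF).2 ξ hξ fun z hz hzξ => ?_).ne
    by_contra hne
    have h1 := (hX.2.2 z ξ hzξ hne).1
    have h2 := hdim z hz
    omega
  haveI : IsArtinian (X.presheaf.stalk ξ) (F.presheaf.stalk ξ) :=
    (isFiniteLength_iff_isNoetherian_isArtinian.1 (Module.length_ne_top_iff.1 hlen)).2
  have hsurj := IsArtinian.surjective_of_injective_endomorphism
    (LinearMap.lsmul (X.presheaf.stalk ξ) (F.presheaf.stalk ξ) φ) hinj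
  have hle : (⊤ : Submodule (X.presheaf.stalk ξ) (F.presheaf.stalk ξ)) ≤
      maximalIdeal (X.presheaf.stalk ξ) • ⊤ := fun m _ => by
    obtain ⟨m', rfl⟩ := hsurj m
    exact Submodule.smul_mem_smul hmem Submodule.mem_top
  have htop := Submodule.eq_bot_of_le_smul_of_le_jacobson_bot _ _ (Module.Finite.fg_top) hle
    (maximalIdeal_le_jacobson _)
  haveI := hξ
  exact bot_ne_top htop.symm

/-- The cycle of a sheaf restricted by a regular section. -/
theorem sheafFun_gysin (hX : Cyc.IsSetup X δ) {L : X.Modules} (hL : PicF.IsInvertible L)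
    {s : L.presheaf.obj (Opposite.op ⊤)} (i : D ⟶ X) [IsClosedImmersion i] (hD : Cyc.IsZeroSchemeOf i L s)
    {k : ℤ} {F : X.Modules} (hF : Coh.IsCoh F)
    (hdim : ∀ x : X, Nontrivial (F.presheaf.stalk x) → δ x ≤ k + 1)
    (hreg : ∀ (x : X) (t : L.presheaf.stalk x) (f : X.presheaf.stalk x),
      Submodule.span (X.presheaf.stalk x) {t} = ⊤ → (L.presheaf.germ ⊤ x trivial) s = f • t →
        Function.Injective (fun m : F.presheaf.stalk x => f • m))
    (w : (ξ : X) → Cyc.secFibre L ξ) (d : D) :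
    Cyc.c1CapFun δ L (Cyc.sheafFun δ (k + 1) F) (Cyc.gysinChoice L s w) (i d) =
      Cyc.sheafFun (fun d => δ (i d)) k ((Scheme.Modules.pullback i).obj F) d := by
  classical
  haveI := hX.1
  haveI := hF.1
  by_cases hdk : δ (i d) = k
  swap
  · simp only [Cyc.sheafFun, if_neg hdk]
    refine finsum_eq_zero_of_forall_eq_zero fun ξ => ?_
    by_cases h : δ ξ = k + 1
    · rw [CycC1Lib.secDivFun_eq_zero_of_not (fun h' => hdk (by omega)), mul_zero]
    · rw [show Cyc.sheafFun δ (k + 1) F ξ = 0 from if_neg h, zero_mul]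
  set x := i d with hxdef
  let R : Type u := X.presheaf.stalk x
  let M : Type u := F.presheaf.stalk x
  haveI : Module.Finite R M := DepthLib.finite_stalk F hF.2 x
  obtain ⟨U, e, hxU, he⟩ := TwistLib.exists_genOn hL x
  obtain ⟨φ, hφ⟩ := (he.genAt hxU).2 (L.presheaf.germ ⊤ x trivial s)
  dsimp only at hφ
  have hker : RingHom.ker (i.stalkMap d).hom = Ideal.span {φ} := exists_zero_coef he hD hxU hφ
  have hinj := hreg x _ φ (span_germ_eq_top hxU (he.genAt hxU)) hφ.symm
  -- the length on `D`
  letI : Algebra R (D.presheaf.stalk d) := (i.stalkMap d).hom.toAlgebra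
  have hs : Function.Surjective (algebraMap R (D.presheaf.stalk d)) := i.stalkMap_surjective d
  let e₁ : D.presheaf.stalk d ⊗[R] M ≃ₗ[D.presheaf.stalk d] ((Scheme.Modules.pullback i).obj F).presheaf.stalk d :=
    ((KFlatLib.stalkPullIso i d).symm.app F).toLinearEquiv
  have hlenD : Module.length (D.presheaf.stalk d) (((Scheme.Modules.pullback i).obj F).presheaf.stalk d) =
      Module.length R (M ⧸ φ • (⊤ : Submodule R M)) := by
    rw [← e₁.length_eq, DvrLenLib.length_tensor_of_surjective hs M]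
    refine (Submodule.quotEquivOfEq _ _ ?_).length_eq
    rw [← Submodule.ideal_span_singleton_smul, ← hker]
    rfl
  -- points of the support
  let pt : PrimeSpectrum R → X := EquidimLib.stalkPt x
  have hpt : ∀ P, pt P ⤳ x := EquidimLib.stalkPt_specializes x
  have hmax : ∀ P : PrimeSpectrum R, pt P = x ↔ P.asIdeal = maximalIdeal R := fun P => by
    constructor
    · intro h
      exact congrArg PrimeSpectrum.asIdeal
        (EquidimLib.stalkPt_injective x (h.trans Scheme.fromSpecStalk_closedPoint.symm) : P = closedPoint R)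
    · intro h
      rw [show P = closedPoint R from PrimeSpectrum.ext h]
      exact Scheme.fromSpecStalk_closedPoint
  have hprime : ∀ P : PrimeSpectrum R, CycDivLib.primeOf (hpt P) = P := fun P =>
    EquidimLib.stalkPt_injective x (CycDivLib.stalkPt_primeOf (hpt P))
  have hsupp : ∀ P : PrimeSpectrum R, P ∈ Module.support R M ↔ Nontrivial (F.presheaf.stalk (pt P)) := fun P =>
    (DvrLenLib.mem_support_stalk_iff F hF.2 x P).trans not_subsingleton_iff_nontrivial
  have htop : ∀ P ∈ Module.support R M, P.asIdeal ≠ maximalIdeal R → δ (pt P) = k + 1 := fun P hP hm => by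
    have h1 := (hX.2.2 _ _ (hpt P) fun h => hm ((hmax P).1 h)).1
    have h2 := hdim _ ((hsupp P).1 hP)
    omega
  have hmin : ∀ P Q : PrimeSpectrum R, Q ∈ Module.support R M → P.asIdeal ≠ maximalIdeal R → P ∈ Module.support R M →
      Q.asIdeal ≤ P.asIdeal → Q = P := by
    intro P Q hQ hP hPs hle
    by_contra hQP
    have hQm : Q.asIdeal ≠ maximalIdeal R := fun h => hP (le_antisymm (le_maximalIdeal P.2.ne_top) (h ▸ hle))
    have h1 := (hX.2.2 _ _ (((PrimeSpectrum.le_iff_specializes Q P).1 hle).map (X.fromSpecStalk x).continuous)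
      (fun h => hQP ((X.fromSpecStalk x).isEmbedding.injective h))).1
    change δ (pt P) < δ (pt Q) at h1
    rw [htop Q hQ hQm, htop P hPs hP] at h1
    exact lt_irrefl _ h1
  have hcoord : ∀ {ξ : X} (h : ξ ⤳ x), fib L (L.presheaf.germ ⊤ ξ trivial s) =
      X.presheaf.stalkSpecializes h φ • fib L (L.presheaf.germ U ξ (h.mem_open U.isOpen hxU) e) := by
    intro ξ h
    have h1 := congrArg (L.presheaf.stalkSpecializes h) hφ.symm
    rw [CycC1Lib.stalkSpecializes_smul, TopCat.Presheaf.germ_stalkSpecializes_apply,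
      TopCat.Presheaf.germ_stalkSpecializes_apply] at h1
    exact (congrArg (fib L) h1).trans (Submodule.Quotient.mk_smul _ _ _)
  have hφP : ∀ P ∈ Module.support R M, P.asIdeal ≠ maximalIdeal R → φ ∉ P.asIdeal := by
    intro P hP hm hmem
    refine fib_ne_zero_of_regular hX hL hF hdim hreg ((hsupp P).1 hP) (htop P hP hm) ?_
    rw [hcoord (hpt P), CycC1Lib.fib_smul_eq_zero_iff (he.genAt _)]
    exact (CycDivLib.specMap_eq_zero_iff (hpt P) φ).2 (by rw [hprime]; exact hmem)
  have hdim1 : Module.supportDim R M ≤ 1 := by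
    rw [Module.supportDim, Order.krullDim_le_one_iff]
    rintro ⟨P, hP⟩
    by_cases hPm : P.asIdeal = maximalIdeal R
    · refine Or.inr ?_
      rintro ⟨Q, hQ⟩ hle
      change Q.asIdeal ≤ P.asIdeal
      rw [hPm]
      exact le_maximalIdeal Q.2.ne_top
    · refine Or.inl ?_
      rintro ⟨Q, hQ⟩ hle
      exact le_of_eq (Subtype.ext (hmin P Q hQ hPm hP hle).symm)
  have h1833 := Groth.Agent.S1833.result R M φ hdim1 (by
      rw [Module.supportDim, Order.krullDim_nonpos_iff_forall_isMax]
      rintro ⟨P, hP⟩ ⟨Q, hQ⟩ hle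
      have hmem : ∀ P : PrimeSpectrum R, P ∈ Module.support R (M ⧸ φ • (⊤ : Submodule R M)) →
          P ∈ Module.support R M ∧ φ ∈ P.asIdeal := by
        intro P hP
        refine ⟨Module.support_subset_of_surjective _ (Submodule.mkQ_surjective _) hP, ?_⟩
        rw [Module.support_eq_zeroLocus] at hP
        refine hP ?_
        rw [SetLike.mem_coe, Module.mem_annihilator]
        intro m
        obtain ⟨m, rfl⟩ := Submodule.Quotient.mk_surjective _ m
        rw [← Submodule.Quotient.mk_smul, Submodule.Quotient.mk_eq_zero]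
        exact Submodule.smul_mem_pointwise_smul m φ ⊤ trivial
      have hm : ∀ P, P ∈ Module.support R (M ⧸ φ • (⊤ : Submodule R M)) → P.asIdeal = maximalIdeal R :=
        fun P hP => by_contra fun h => hφP P (hmem P hP).1 h (hmem P hP).2
      refine le_of_eq (Subtype.ext (PrimeSpectrum.ext ?_))
      show Q.asIdeal = P.asIdeal
      rw [hm P hP, hm Q hQ])
  rw [show LinearMap.ker (LinearMap.lsmul R M φ) = ⊥ from LinearMap.ker_eq_bot.2 hinj, Module.length_bot,
    zero_add] at h1833
  have hfin : {P : PrimeSpectrum R | P ∈ Module.support R M ∧ P.asIdeal ≠ maximalIdeal R}.Finite := by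
    refine ((Ideal.finite_minimalPrimes_of_isNoetherianRing R (Module.annihilator R M)).preimage
      (f := PrimeSpectrum.asIdeal) (fun a _ b _ h => PrimeSpectrum.ext h)).subset fun P hP => ?_
    have hP' := hP.1
    rw [Module.support_eq_zeroLocus] at hP'
    refine ⟨⟨P.2, hP'⟩, fun Q hQ hle => (congrArg PrimeSpectrum.asIdeal (hmin P ⟨Q, hQ.1⟩ ?_ hP.2 hP.1 hle)).ge⟩
    rw [Module.support_eq_zeroLocus]
    exact hQ.2
  let T := hfin.toFinset
  rw [finsum_cond_eq_sum_of_cond_iff (t := T) _ (fun {P} _ => by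
    rw [Set.Finite.mem_toFinset]
    rfl)] at h1833
  rw [show Cyc.sheafFun (fun d => δ (i d)) k ((Scheme.Modules.pullback i).obj F) d = _ from if_pos hdk]
  rw [hlenD, h1833]
  have hfinlen : ∀ P ∈ T, Module.length (X.presheaf.stalk (pt P)) (F.presheaf.stalk (pt P)) ≠ ⊤ := by
    intro P hP
    obtain ⟨hPs, hPm⟩ := hfin.mem_toFinset.1 hP
    refine ((Groth.Agent.S1916.result X F hF).2 _ ((hsupp P).1 hPs) fun z hz hzξ => ?_).ne
    by_contra hne
    have h1 := (hX.2.2 z _ hzξ hne).1
    have h2 := hdim z hz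
    have h3 := htop P hPs hPm
    omega
  have hord : ∀ P ∈ T, Ring.ord (R ⧸ P.asIdeal) (Ideal.Quotient.mk P.asIdeal φ) ≠ ⊤ := by
    intro P hP
    obtain ⟨hPs, hPm⟩ := hfin.mem_toFinset.1 hP
    haveI : Ring.KrullDimLE 1 (R ⧸ P.asIdeal) := Ring.krullDimLE_iff.2 (by
      have h := CycPushLib.dimBetween_le_one_of_drop hX (hpt P) (by rw [hdk, htop P hPs hPm])
      rw [← CycDivLib.dim_quotient (hpt P), hprime] at h
      exact h)
    exact Ring.ord_ne_top (mem_nonZeroDivisors_of_ne_zero fun h => hφP P hPs hPm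
      (Ideal.Quotient.eq_zero_iff_mem.1 h))
  have hlen : ∀ P : PrimeSpectrum R, Module.length (Localization.AtPrime P.asIdeal)
      (LocalizedModule P.asIdeal.primeCompl M) = Module.length (X.presheaf.stalk (pt P)) (F.presheaf.stalk (pt P)) :=
    fun P => DvrLenLib.length_localizedModule_stalk F x P rfl
  show ∑ᶠ ξ : X, _ * _ = _
  rw [finsum_eq_sum_of_support_subset _ (s := T.image pt) fun ξ hξ => ?_,
    Finset.sum_image fun a _ b _ h => EquidimLib.stalkPt_injective x h]
  refine Eq.trans ?_ (CycDivLib.toNat_sum T _ fun P hP =>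
    WithTop.mul_ne_top (hord P hP) ((hlen P).trans_ne (hfinlen P hP))).symm
  swap
  · have hne := left_ne_zero_of_mul hξ
    unfold Cyc.sheafFun at hne
    have hsp : ξ ⤳ x ∧ δ x + 1 = δ ξ := by
      by_contra h
      exact right_ne_zero_of_mul hξ (CycC1Lib.secDivFun_eq_zero_of_not h _)
    split_ifs at hne with h'
    swap
    · exact absurd rfl hne
    rw [Finset.mem_coe, Finset.mem_image]
    refine ⟨CycDivLib.primeOf hsp.1, hfin.mem_toFinset.2 ⟨(hsupp _).2 ?_, fun hP => ?_⟩,
      CycDivLib.stalkPt_primeOf hsp.1⟩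
    · rw [show pt (CycDivLib.primeOf hsp.1) = ξ from CycDivLib.stalkPt_primeOf hsp.1]
      by_contra h0
      rw [not_nontrivial_iff_subsingleton] at h0
      rw [Module.length_eq_zero_iff.2 h0] at hne
      exact hne rfl
    · have := (hmax _).2 hP
      rw [show pt (CycDivLib.primeOf hsp.1) = ξ from CycDivLib.stalkPt_primeOf hsp.1] at this
      rw [this] at h'
      omega
  refine Finset.sum_congr rfl fun P hP => ?_
  obtain ⟨hPs, hPm⟩ := hfin.mem_toFinset.1 hP
  have hd' := htop P hPs hPm
  have hne := fib_ne_zero_of_regular hX hL hF hdim hreg ((hsupp P).1 hPs) hd'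
  have hgc : Cyc.gysinChoice L s w (pt P) = fib L (L.presheaf.germ ⊤ (pt P) trivial s) := if_pos hne
  rw [show Cyc.sheafFun δ (k + 1) F (pt P) = _ from if_pos hd', hgc, CycC1Lib.secDivFun_eq_divFun hX he hxU _ (hcoord (hpt P)), Cyc.divFun,
    dif_pos ⟨hpt P, by rw [hdk, hd']⟩]
  refine Eq.trans ?_ ((congrArg Nat.cast (ENat.toNat_mul _ _)).trans (Nat.cast_mul _ _)).symm
  rw [hlen, mul_comm]
  refine congrArg₂ (· * ·) ?_ rfl
  show Cyc.ordAt x (pt P) (hpt P) (Cyc.specMap x (pt P) (hpt P) φ) = _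
  rw [CycDivLib.ordAt_specMap (hpt P) (CycPushLib.dimBetween_le_one_of_drop hX (hpt P) (by rw [hdk, hd']))
    (fun h => hφP P hPs hPm (by
      have h' := (CycDivLib.specMap_eq_zero_iff (hpt P) φ).1 h
      rwa [hprime] at h')), hprime, CycDivLib.length_quot_quot]

end CycGysLib

end
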