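import Mathlib
import Groth.Prelude.Def_C1
import Groth.Agent.CycGysLib.Flat
import Groth.Agent.CycGysLib.FibreLen
import Groth.Agent.CohenLib.SmoothLift

/-!
# The Gysin map of a relative divisor and flat pullback
-/

set_option autoImplicit false
set_option linter.style.haveILetI false
set_option linter.unusedSectionVars false

universe u

open AlgebraicGeometry CategoryTheory CategoryTheory.Limits IsLocalRing Opposite

noncomputable section

namespace CycGysLib

variable {X Y D : Scheme.{u}} {δX : X → ℤ} {δY : Y → ℤ}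

theorem primeOf_refl (y : Y) (h : y ⤳ y) : (CycDivLib.primeOf h).asIdeal = maximalIdeal (Y.presheaf.stalk y) :=
  congrArg PrimeSpectrum.asIdeal (EquidimLib.stalkPt_injective y
    ((CycDivLib.stalkPt_primeOf h).trans Scheme.fromSpecStalk_closedPoint.symm) :
      CycDivLib.primeOf h = closedPoint (Y.presheaf.stalk y))

theorem map_fibIdeal_specializes (p : X ⟶ Y) {x ξ : X} (h : ξ ⤳ x) (he : p ξ = p x) :
    (CycLimLib.fibIdeal p x).map (X.presheaf.stalkSpecializes h).hom = CycLimLib.fibIdeal p ξ := by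
  have := CycDivLib.map_map_primeOf p he specializes_rfl h
  rwa [primeOf_refl] at this

theorem fibIdeal_le_primeOf_iff (p : X ⟶ Y) {x ξ : X} (h : ξ ⤳ x) :
    CycLimLib.fibIdeal p x ≤ (CycDivLib.primeOf h).asIdeal ↔ p ξ = p x := by
  have he : X.fromSpecStalk x (CycDivLib.primeOf h) = ξ := CycDivLib.stalkPt_primeOf h
  constructor
  · intro hle
    have := CycLimLib.map_fromSpecStalk_eq p (CycDivLib.primeOf h) hle
    rwa [he] at this
  · intro hp
    refine CycLimLib.fibIdeal_le_of_map_eq p (CycDivLib.primeOf h) ?_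
    rw [he]
    exact hp

/-- A regular element cutting out a flat closed subscheme is regular on the fibre. -/
theorem mem_fibIdeal_of_mul_mem (p : X ⟶ Y) (i : D ⟶ X) [IsClosedImmersion i] [Flat (i ≫ p)] (d : D)
    {φ : X.presheaf.stalk (i d)} (hker : RingHom.ker (i.stalkMap d).hom = Ideal.span {φ})
    (hreg : ∀ a b : X.presheaf.stalk (i d), φ * a = φ * b → a = b)
    {a : X.presheaf.stalk (i d)} (ha : φ * a ∈ CycLimLib.fibIdeal p (i d)) : a ∈ CycLimLib.fibIdeal p (i d) := by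
  let A : Type u := Y.presheaf.stalk (p (i d))
  letI : Algebra A (X.presheaf.stalk (i d)) := (p.stalkMap (i d)).hom.toAlgebra
  letI : Algebra A (D.presheaf.stalk d) := ((i ≫ p).stalkMap d).hom.toAlgebra
  haveI : Module.Flat A (D.presheaf.stalk d) := RingHom.flat_algebraMap_iff.mp (Flat.stalkMap (i ≫ p) d)
  let π : X.presheaf.stalk (i d) →ₐ[A] D.presheaf.stalk d :=
    { (i.stalkMap d).hom with
      commutes' := fun r => by
        show i.stalkMap d (p.stalkMap (i d) r) = (i ≫ p).stalkMap d r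
        rw [Scheme.Hom.stalkMap_comp]
        rfl }
  have hπ0 : π (φ * a) = 0 := by
    have h : φ * a ∈ RingHom.ker (i.stalkMap d).hom :=
      hker ▸ Ideal.mul_mem_right a _ (Ideal.mem_span_singleton_self φ)
    exact h
  have hmem := CohenLib.mem_map_mul_of_flat π (i.stalkMap_surjective d) (maximalIdeal A) ha hπ0
  rw [show RingHom.ker π = Ideal.span {φ} from hker] at hmem
  obtain ⟨j, hj, hj'⟩ := Ideal.mem_mul_span_singleton.1 hmem
  have : j = a := hreg j a (by rw [mul_comm φ j]; exact hj')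
  exact this ▸ hj

theorem deltaCompat_comp_closedImmersion (p : X ⟶ Y) (i : D ⟶ X) [IsClosedImmersion i]
    (hδ : Cyc.DeltaCompat p δX δY) : Cyc.DeltaCompat (i ≫ p) (fun d => δX (i d)) δY := by
  intro d
  obtain ⟨n, hn, hd⟩ := hδ (i d)
  refine ⟨n, ?_, hd⟩
  show Dual3.resTrdeg (i ≫ p) d = n
  rw [AlgSpLib.resTrdeg_comp, CycPushLib.trdeg_preimmersion_left i, add_zero]
  exact hn

/-- The Gysin map of a relative effective divisor commutes with flat pullback, exactly. -/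
theorem gysin_pullFun_eq (hX : Cyc.IsSetup X δX) (hY : Cyc.IsSetup Y δY) (p : X ⟶ Y) [Flat p]
    [LocallyOfFiniteType p] {r : ℕ} (hr : Cyc.HasRelDim p (r + 1)) (hδ : Cyc.DeltaCompat p δX δY)
    {L : X.Modules} (hL : PicF.IsInvertible L) (s : L.presheaf.obj (Opposite.op ⊤))
    (hreg : ∀ x : X, Function.Injective (fun a : X.presheaf.stalk x => a • (L.presheaf.germ ⊤ x trivial) s))
    (i : D ⟶ X) [IsClosedImmersion i] (hD : Cyc.IsZeroSchemeOf i L s) [Flat (i ≫ p)]
    (hrD : Cyc.HasRelDim (i ≫ p) r) (α : AlgebraicCycle Y ℤ) (w : (ξ : X) → Cyc.secFibre L ξ) (d : D) :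
    Cyc.c1CapFun δX L (Cyc.pullFun p δX δY (r + 1) ⇑α) (Cyc.gysinChoice L s w) (i d) =
      Cyc.pullFun (i ≫ p) (fun d => δX (i d)) δY r ⇑α d := by
  classical
  haveI := hX.1
  have hout : ∀ ξ, δX ξ = δY (p ξ) + ((r : ℤ) + 1) → ξ ∉ Set.range i := by
    rintro _ h ⟨e, rfl⟩
    have h2 := CycLimLib.delta_le (i ≫ p) (deltaCompat_comp_closedImmersion p i hδ) hrD e
    change δX (i e) ≤ δY (p (i e)) + r at h2
    omega
  have hle : ∀ ξ, δX ξ ≤ δY (p ξ) + ((r : ℤ) + 1) := fun ξ => by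
    simpa using CycLimLib.delta_le p hδ hr ξ
  have hsub : ∀ (ξ : X), ξ ⤳ i d → p ξ ≠ p (i d) → δY (p (i d)) < δY (p ξ) := fun ξ h hne =>
    (hY.2.2 _ _ (h.map p.continuous) hne).1
  show ∑ᶠ ξ : X, Cyc.pullFun p δX δY (r + 1) ⇑α ξ * Cyc.secDivFun δX L ξ (Cyc.gysinChoice L s w ξ) (i d) = _
  have hterm0 : ∀ ξ, Cyc.pullFun p δX δY (r + 1) ⇑α ξ * Cyc.secDivFun δX L ξ (Cyc.gysinChoice L s w ξ) (i d) ≠ 0 →
      δX ξ = δY (p ξ) + ((r : ℤ) + 1) ∧ ξ ⤳ i d ∧ δX (i d) + 1 = δX ξ := by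
    intro ξ hξ
    have h1 := left_ne_zero_of_mul hξ
    have h2 : ξ ⤳ i d ∧ δX (i d) + 1 = δX ξ := by
      by_contra hn
      exact right_ne_zero_of_mul hξ (CycC1Lib.secDivFun_eq_zero_of_not hn _)
    simp only [Cyc.pullFun] at h1
    split_ifs at h1 with h
    · exact ⟨h, h2⟩
    · exact absurd rfl h1
  by_cases hx : δX (i d) = δY (p (i d)) + r
  swap
  · rw [show Cyc.pullFun (i ≫ p) (fun d => δX (i d)) δY r ⇑α d = 0 from if_neg hx]
    refine finsum_eq_zero_of_forall_eq_zero fun ξ => ?_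
    by_contra hξ
    obtain ⟨h1, h2, h3⟩ := hterm0 ξ hξ
    by_cases hne : p ξ = p (i d)
    · rw [hne] at h1
      omega
    · have h4 := CycLimLib.delta_le (i ≫ p) (deltaCompat_comp_closedImmersion p i hδ) hrD d
      change δX (i d) ≤ δY (p (i d)) + r at h4
      have h5 := hsub ξ h2 hne
      omega
  obtain ⟨U, e, hxU, he⟩ := TwistLib.exists_genOn hL (i d)
  obtain ⟨φ, hφ⟩ := (he.genAt hxU).2 (L.presheaf.germ ⊤ (i d) trivial s)
  have hker := exists_zero_coef he hD hxU hφ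
  have hregφ : ∀ a b : X.presheaf.stalk (i d), φ * a = φ * b → a = b := by
    intro a b hab
    refine hreg (i d) ?_
    show a • _ = b • _
    rw [← hφ]
    show a • φ • L.presheaf.germ U (i d) hxU e = b • φ • L.presheaf.germ U (i d) hxU e
    rw [smul_smul, smul_smul, mul_comm a, mul_comm b, hab]
  let J : Ideal (X.presheaf.stalk (i d)) := CycLimLib.fibIdeal p (i d)
  have hdrop : ∀ (ξ : X) (h : ξ ⤳ i d), ξ ≠ i d → J ≤ (CycDivLib.primeOf h).asIdeal →
      δX ξ = δX (i d) + 1 := by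
    intro ξ h hne hJ
    have h1 := (hX.2.2 ξ (i d) h hne).1
    have h2 := hle ξ
    rw [(fibIdeal_le_primeOf_iff p h).1 hJ] at h2
    omega
  have hgenξ : ∀ (ξ : X) (h : ξ ⤳ i d), ξ ≠ i d → J ≤ (CycDivLib.primeOf h).asIdeal →
      δX ξ = δY (p ξ) + ((r : ℤ) + 1) := by
    intro ξ h hne hJ
    rw [hdrop ξ h hne hJ, (fibIdeal_le_primeOf_iff p h).1 hJ, hx]
    ring
  let F : X → ℤ := fun ξ => if h : ξ ⤳ i d then Cyc.ordAt (i d) ξ h (Cyc.specMap (i d) ξ h φ) else 0
  let G : X → ℤ := fun ξ => if ξ ⤳ i d ∧ ξ ≠ i d ∧ p ξ = p (i d) then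
    ((Module.length (X.presheaf.stalk ξ) (X.presheaf.stalk ξ ⧸ CycLimLib.fibIdeal p ξ)).toNat : ℤ) else 0
  have hlen := length_quot_sup_eq_finsum hX (x := i d) J (φ := φ) hdrop ?hc ?hf
    (fun a ha => mem_fibIdeal_of_mul_mem p i d hker hregφ ha) F G ?hF ?hF0 ?hG ?hG0
  case hc =>
    intro ξ h hJ hφP
    by_contra hne
    refine hout ξ (hgenξ ξ h hne hJ) ?_
    rw [hD.1]
    show CycC1Lib.fib L (L.presheaf.germ ⊤ ξ trivial s) = 0
    by_contra hne0
    exact (specMap_ne_zero_of_coord he h hxU hφ hne0).1 ((CycDivLib.specMap_eq_zero_iff h φ).2 hφP)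
  case hf =>
    intro ξ h hne hJ
    rw [map_fibIdeal_specializes p h ((fibIdeal_le_primeOf_iff p h).1 hJ)]
    refine CycLimLib.length_ne_top p (CycLimLib.isGen_of_relDim p hδ hr ?_)
    have := hgenξ ξ h hne hJ
    push_cast
    exact this
  case hF => exact fun ξ h _ => dif_pos h
  case hF0 => exact fun ξ h => dif_neg h
  case hG =>
    intro ξ h hne hJ
    have he := (fibIdeal_le_primeOf_iff p h).1 hJ
    rw [map_fibIdeal_specializes p h he]
    exact if_pos ⟨h, hne, he⟩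
  case hG0 =>
    intro ξ h hG
    simp only [G] at hG
    split_ifs at hG with h'
    · exact ⟨(fibIdeal_le_primeOf_iff p h).2 h'.2.2, h'.2.1⟩
    · exact absurd rfl hG
  have hmul : ∀ ξ, Cyc.pullFun p δX δY (r + 1) ⇑α ξ * Cyc.secDivFun δX L ξ (Cyc.gysinChoice L s w ξ) (i d) =
      α (p (i d)) * (G ξ * F ξ) := by
    intro ξ
    by_cases hGξ : ξ ⤳ i d ∧ ξ ≠ i d ∧ p ξ = p (i d)
    · obtain ⟨h, hne, hp⟩ := hGξ
      have hJ := (fibIdeal_le_primeOf_iff p h).2 hp
      have hgen := hgenξ ξ h hne hJ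
      have hξout := hout ξ hgen
      have hne0 : CycC1Lib.fib L (L.presheaf.germ ⊤ ξ trivial s) ≠ 0 := fun h0 => hξout (hD.1.ge h0)
      obtain ⟨-, hs⟩ := specMap_ne_zero_of_coord he h hxU hφ hne0
      rw [gysinChoice_of_not_mem hD w hξout, CycC1Lib.secDivFun_eq_divFun hX he hxU _ hs]
      simp only [Cyc.pullFun, G, F, Cyc.divFun]
      rw [if_pos hgen, dif_pos ⟨h, (hdrop ξ h hne hJ).symm⟩, if_pos ⟨h, hne, hp⟩, dif_pos h]
      exact (mul_assoc _ _ _).trans (congrArg (· * _) (congrArg (⇑α) hp))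
    · rw [show G ξ = 0 from if_neg hGξ, zero_mul, mul_zero]
      by_contra hξ
      obtain ⟨h1, h2, h3⟩ := hterm0 ξ hξ
      have hne : ξ ≠ i d := fun h => by
        rw [h] at h3
        omega
      refine hGξ ⟨h2, hne, ?_⟩
      by_contra hp
      have h5 := hsub ξ h2 hp
      omega
  rw [finsum_congr hmul, ← mul_finsum' _ _ ?hfin, ← hlen]
  case hfin =>
    refine (CycC1Lib.finite_gen_inter_affine p
      (exists_isAffineOpen_mem_and_subset (X := X) (x := i d) (U := ⊤) trivial).choose_spec.1 (p (i d))).subset ?_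
    intro ξ hξ
    have hG := left_ne_zero_of_mul hξ
    simp only [G] at hG
    split_ifs at hG with h
    swap
    · exact absurd rfl hG
    refine ⟨h.1.mem_open (TopologicalSpace.Opens.isOpen _)
      (exists_isAffineOpen_mem_and_subset (X := X) (x := i d) (U := ⊤) trivial).choose_spec.2.1,
      CycLimLib.isGen_of_relDim p hδ hr ?_, h.2.2⟩
    have := hgenξ ξ h.1 h.2.1 ((fibIdeal_le_primeOf_iff p h.1).2 h.2.2)
    push_cast
    exact this
  show _ = Cyc.pullFun (i ≫ p) (fun d => δX (i d)) δY r ⇑α d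
  simp only [Cyc.pullFun]
  refine Eq.trans ?_ (if_pos hx).symm
  refine congrArg (fun n : ℕ∞ => α (p (i d)) * (n.toNat : ℤ)) ?_
  show _ = Module.length (D.presheaf.stalk d) (D.presheaf.stalk d ⧸ CycLimLib.fibIdeal (i ≫ p) d)
  have hmap : CycLimLib.fibIdeal (i ≫ p) d = (J ⊔ Ideal.span {φ}).map (i.stalkMap d).hom := by
    rw [fibIdeal_comp, Ideal.map_sup, ← hker, (Ideal.map_eq_bot_iff_le_ker _).2 le_rfl, sup_bot_eq]
  rw [hmap]
  exact (CycPushLib.length_quot_map_surjective _ (i.stalkMap_surjective d) _ (hker ▸ le_sup_right)).symm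

end CycGysLib

end
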